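import Groth.Agent.Lib.HensProper6.Couple
import Groth.Agent.Lib.HensH7.PairNoetherian
import Groth.Agent.S2147
import Mathlib

/-! # Lifting of clopens for proper schemes over arbitrary henselian pairs

By Noetherian approximation a partition of the special part of a proper scheme comes from a proper
scheme over a finitely generated ring, whose henselization is Noetherian.
-/

set_option autoImplicit false
universe u

open CategoryTheory CategoryTheory.Limits AlgebraicGeometry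

namespace Groth.Agent.HensProper6

open Groth.Agent.Hens

theorem exists_isClopen_noetherian {A : Type u} [CommRing A] [IsNoetherianRing A] {I : Ideal A}
    (hA : HenselianRing A I) {X : Scheme.{u}} (f : X ⟶ Spec (CommRingCat.of A)) [IsProper f]
    {P Q : Set X} (hP : IsClosed P) (hQ : IsClosed Q) (hd : Disjoint P Q)
    (hPQ : P ∪ Q = f ⁻¹' PrimeSpectrum.zeroLocus (I : Set A)) :
    ∃ W : Set X, IsClopen W ∧ P ⊆ W ∧ Disjoint W Q := by
  let _ : Algebra A Γ(X, ⊤) := RingHom.toAlgebra (R := A) (S := Γ(X, ⊤)) (Coh.toGlobal f)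
  have : Module.Finite A Γ(X, ⊤) := finite_toGlobal f
  have h : ClopenLift (Subtype.val : (f ⁻¹' PrimeSpectrum.zeroLocus (I : Set A) : Set X) → X) :=
    (clopenLift_proper f _ (henselianRing_of_isIntegral hA (B := Γ(X, ⊤)))).congr_range
      Topology.IsEmbedding.subtypeVal Topology.IsEmbedding.subtypeVal
      ((Subtype.range_coe.trans (preimage_zeroLocus f I).symm).trans Subtype.range_coe.symm)
  have hQ' : (Subtype.val ⁻¹' P : Set (f ⁻¹' PrimeSpectrum.zeroLocus (I : Set A) : Set X)) =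
      (Subtype.val ⁻¹' Q)ᶜ := by
    ext ⟨x, hx⟩
    refine ⟨fun h h' => hd.le_bot ⟨h, h'⟩, fun h' => ?_⟩
    rcases hPQ.ge hx with h | h
    · exact h
    · exact absurd h h'
  obtain ⟨W, ⟨hW, hWP⟩, -⟩ := h (Subtype.val ⁻¹' P)
    ⟨hP.preimage continuous_subtype_val, hQ' ▸ (hQ.preimage continuous_subtype_val).isOpen_compl⟩
  refine ⟨W, hW, fun x hx => (Set.ext_iff.mp hWP ⟨x, hPQ.le (Or.inl hx)⟩).mpr hx,
    Set.disjoint_left.mpr fun x hxW hxQ => hd.le_bot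
      ⟨(Set.ext_iff.mp hWP ⟨x, hPQ.le (Or.inr hxQ)⟩).mp hxW, hxQ⟩⟩

/-- In a scheme a compact set inside an open has a quasi-compact open neighbourhood inside it. -/
theorem exists_qcOpen_between {X : Scheme.{u}} {P : Set X} (hP : IsCompact P) (O : X.Opens)
    (hPO : P ⊆ O) : ∃ U : X.Opens, IsCompact (U : Set X) ∧ P ⊆ U ∧ U ≤ O := by
  obtain ⟨U, hUc, hUo, hPU, hUO⟩ :=
    PrespectralSpace.exists_isCompact_and_isOpen_between (K := P) (U := (O : Set X)) hP O.2 hPO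
  exact ⟨⟨U, hUo⟩, hUc, hPU, hUO⟩

theorem toSpecΓ_comp_specMap {S : Scheme.{u}} {A : CommRingCat.{u}} (a : Spec A ⟶ S) :
    a ≫ S.toSpecΓ = Spec.map (a.appTop ≫ (Scheme.ΓSpecIso A).hom) := by
  rw [Scheme.toSpecΓ_naturality, Spec.map_comp, SpecMap_ΓSpecIso_hom]

set_option maxHeartbeats 1000000 in
/-- **Lifting of clopens**: over a henselian pair a partition of the special part of a proper scheme
is the trace of a clopen subset. -/
theorem exists_isClopen {A : Type u} [CommRing A] {I : Ideal A} (hA : HenselianRing A I)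
    {X : Scheme.{u}} (f : X ⟶ Spec (CommRingCat.of A)) [IsProper f]
    {P Q : Set X} (hP : IsClosed P) (hQ : IsClosed Q) (hd : Disjoint P Q)
    (hPQ : P ∪ Q = f ⁻¹' PrimeSpectrum.zeroLocus (I : Set A)) :
    ∃ W : Set X, IsClopen W ∧ P ⊆ W ∧ Disjoint W Q := by
  classical
  haveI : CompactSpace X := QuasiCompact.compactSpace_of_compactSpace f
  obtain ⟨U₀, hU₀c, hPU, hUQ⟩ := exists_qcOpen_between hP.isCompact ⟨Qᶜ, hQ.isOpen_compl⟩
    hd.subset_compl_right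
  obtain ⟨V₀, hV₀c, hQV, hVP⟩ := exists_qcOpen_between hQ.isCompact ⟨Pᶜ, hP.isOpen_compl⟩
    hd.symm.subset_compl_right
  obtain ⟨J, _, _, DX, DS, φ, cX, cS, hcX, hcS, eX, eS, haff, hprop, hcomp⟩ := S2147.result f
  haveI : ∀ {i j : J} (a : i ⟶ j), IsAffineHom (DX.map a) := fun a => (haff _ _ a).1
  haveI : ∀ {i j : J} (a : i ⟶ j), IsAffineHom (DS.map a) := fun a => (haff _ _ a).2
  haveI : ∀ i, IsProper (φ.app i) := fun i => (hprop i).1
  haveI : ∀ i, CompactSpace (DS.obj i) := fun i => (hprop i).2.1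
  haveI hnoe : ∀ i, IsLocallyNoetherian (DS.obj i) := fun i => by
    haveI := (hprop i).2.2
    haveI : IsNoetherianRing (CommRingCat.of (ULift.{u} ℤ)) :=
      isNoetherianRing_of_ringEquiv ℤ ULift.ringEquiv.symm
    exact LocallyOfFiniteType.isLocallyNoetherian (Limits.IsTerminal.from specULiftZIsTerminal (DS.obj i))
  haveI : ∀ i, QuasiSeparatedSpace (DS.obj i) := fun i => inferInstance
  haveI : ∀ i, CompactSpace (DX.obj i) := fun i => QuasiCompact.compactSpace_of_compactSpace (φ.app i)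
  haveI : ∀ i, QuasiSeparatedSpace (DX.obj i) := fun i => quasiSeparatedSpace_of_quasiSeparated (φ.app i)
  haveI : IsAffine cS.pt := IsAffine.of_isIso eS.hom
  -- the sets and a stage
  let U : cX.pt.Opens := eX.hom ⁻¹ᵁ U₀
  let V : cX.pt.Opens := eX.hom ⁻¹ᵁ V₀
  obtain ⟨i₁, U₁, hU₁c, hU₁⟩ := exists_preimage_eq DX cX hcX U (QuasiCompact.isCompact_preimage _ U₀.2 hU₀c)
  obtain ⟨i₂, V₂, hV₂c, hV₂⟩ := exists_preimage_eq DX cX hcX V (QuasiCompact.isCompact_preimage _ V₀.2 hV₀c)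
  obtain ⟨i₀, hi₀⟩ := Scheme.exists_isAffine_of_isLimit DS cS hcS
  -- the equations
  let f' : cX.pt ⟶ Spec (CommRingCat.of A) := eX.hom ≫ f
  let D : A → cX.pt.Opens := fun a => f' ⁻¹ᵁ PrimeSpectrum.basicOpen a
  have hX₀ : ∀ x : cX.pt, f' x ∉ PrimeSpectrum.zeroLocus (I : Set A) → ∃ a : I, x ∈ D a.1 := by
    intro x hx
    obtain ⟨a, ha, hax⟩ := Set.not_subset.mp hx
    exact ⟨⟨a, ha⟩, hax⟩
  have hUP : ∀ x : cX.pt, x ∈ U → f' x ∈ PrimeSpectrum.zeroLocus (I : Set A) → eX.hom x ∈ P := by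
    intro x hxU hx
    rcases hPQ.ge (show eX.hom x ∈ f ⁻¹' _ from hx) with h | h
    · exact h
    · exact absurd h (hUQ hxU)
  have hVQ : ∀ x : cX.pt, x ∈ V → f' x ∈ PrimeSpectrum.zeroLocus (I : Set A) → eX.hom x ∈ Q := by
    intro x hxV hx
    rcases hPQ.ge (show eX.hom x ∈ f ⁻¹' _ from hx) with h | h
    · exact absurd h (hVP hxV)
    · exact h
  haveI : CompactSpace cX.pt := Scheme.compactSpace_of_isLimit DX cX hcX
  haveI : QuasiSeparatedSpace cX.pt := quasiSeparatedSpace_of_quasiSeparated f'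
  have hUVc : IsCompact ((U ⊓ V : cX.pt.Opens) : Set cX.pt) :=
    QuasiSeparatedSpace.inter_isCompact _ _ U.2 (QuasiCompact.isCompact_preimage _ U₀.2 hU₀c)
      V.2 (QuasiCompact.isCompact_preimage _ V₀.2 hV₀c)
  obtain ⟨s₁, hs₁⟩ := hUVc.elim_finite_subcover (fun a : I => (D a.1 : Set cX.pt)) (fun a => (D a.1).2)
    fun x hx => Set.mem_iUnion.mpr (hX₀ x fun h => hd.le_bot ⟨hUP x hx.1 h, hVQ x hx.2 h⟩)
  obtain ⟨s₂, hs₂⟩ := ((U ⊔ V : cX.pt.Opens).2.isClosed_compl.isCompact).elim_finite_subcover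
    (fun a : I => (D a.1 : Set cX.pt)) (fun a => (D a.1).2) fun x hx => Set.mem_iUnion.mpr (hX₀ x fun h => by
      rcases hPQ.ge (show eX.hom x ∈ f ⁻¹' _ from h) with h' | h'
      · exact hx (Or.inl (hPU h'))
      · exact hx (Or.inr (hQV h')))
  -- lift the equations to a stage
  let s := s₁ ∪ s₂
  choose ia ba hba using fun a : I =>
    exists_appTop_π_eq_of_isLimit DS cS hcS (eS.hom.appTop ((Scheme.ΓSpecIso (CommRingCat.of A)).inv a.1))
  obtain ⟨j, hj⟩ := IsCofiltered.inf_objs_exists (({i₁, i₂, i₀} : Finset J) ∪ s.image ia)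
  let g₁ : j ⟶ i₁ := (hj (by simp)).some
  let g₂ : j ⟶ i₂ := (hj (by simp)).some
  let g₀ : j ⟶ i₀ := (hj (by simp)).some
  let ga : ∀ a : s, j ⟶ ia a.1 := fun a =>
    (hj (Finset.mem_union_right _ (Finset.mem_image_of_mem _ a.2))).some
  let α : ∀ i : J, Γ(DS.obj i, ⊤) ⟶ CommRingCat.of A := fun i =>
    (eS.inv ≫ cS.π.app i).appTop ≫ (Scheme.ΓSpecIso (CommRingCat.of A)).hom
  let b : s → Γ(DS.obj j, ⊤) := fun a => (DS.map (ga a)).appTop (ba a.1)
  have hb : ∀ a : s, (α j).hom (b a) = a.1.1 := by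
    intro a
    have hw : (DS.map (ga a)).appTop ≫ (cS.π.app j).appTop = (cS.π.app (ia a.1)).appTop := by
      rw [← Scheme.Hom.comp_appTop, cS.w]
    show (Scheme.ΓSpecIso (CommRingCat.of A)).hom.hom ((eS.inv ≫ cS.π.app j).appTop.hom (b a)) = _
    rw [Scheme.Hom.comp_appTop]
    show (Scheme.ΓSpecIso (CommRingCat.of A)).hom.hom
      (eS.inv.appTop.hom (((DS.map (ga a)).appTop ≫ (cS.π.app j).appTop).hom (ba a.1))) = _
    rw [hw]
    show (Scheme.ΓSpecIso (CommRingCat.of A)).hom.hom (eS.inv.appTop.hom ((cS.π.app (ia a.1)).appTop (ba a.1))) = _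
    rw [← hba a.1]
    show (eS.hom.appTop ≫ eS.inv.appTop ≫ (Scheme.ΓSpecIso (CommRingCat.of A)).hom).hom
      ((Scheme.ΓSpecIso (CommRingCat.of A)).inv a.1.1) = _
    rw [← Scheme.Hom.comp_appTop_assoc, Iso.inv_hom_id, Scheme.Hom.id_appTop, Category.id_comp]
    exact congr($((Scheme.ΓSpecIso (CommRingCat.of A)).inv_hom_id).hom a.1.1)
  let ψ : ∀ i, DX.obj i ⟶ Spec Γ(DS.obj i, ⊤) := fun i => φ.app i ≫ (DS.obj i).toSpecΓ
  have hψ : ∀ i, cX.π.app i ≫ ψ i = f' ≫ Spec.map (α i) := fun i => by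
    show cX.π.app i ≫ φ.app i ≫ _ = _
    rw [← Category.assoc, hcomp i, ← toSpecΓ_comp_specMap]
    simp only [f', Category.assoc]
  have hψx : ∀ i (x : cX.pt) (t : Γ(DS.obj i, ⊤)),
      t ∈ (ψ i (cX.π.app i x)).asIdeal ↔ (α i).hom t ∈ (f' x).asIdeal := fun i x t => by
    rw [← Scheme.Hom.comp_apply, hψ, Scheme.Hom.comp_apply]
    rfl
  let O : (DX.obj j).Opens :=
    ⟨(ψ j ⁻¹' PrimeSpectrum.zeroLocus (Set.range b))ᶜ,
      ((PrimeSpectrum.isClosed_zeroLocus _).preimage (ψ j).continuous).isOpen_compl⟩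
  have hO : ∀ x : cX.pt, ∀ a ∈ s, x ∈ D a.1 → cX.π.app j x ∈ O := by
    intro x a ha hx hmem
    have h1 : b ⟨a, ha⟩ ∈ (ψ j (cX.π.app j x)).asIdeal := hmem ⟨⟨a, ha⟩, rfl⟩
    rw [hψx, hb] at h1
    exact hx h1
  let Uj : (DX.obj j).Opens := DX.map g₁ ⁻¹ᵁ U₁
  let Vj : (DX.obj j).Opens := DX.map g₂ ⁻¹ᵁ V₂
  have hUj : cX.π.app j ⁻¹ᵁ Uj = U := by
    rw [← hU₁, ← Scheme.Hom.comp_preimage, cX.w]
  have hVj : cX.π.app j ⁻¹ᵁ Vj = V := by
    rw [← hV₂, ← Scheme.Hom.comp_preimage, cX.w]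
  have hUjc : IsCompact (Uj : Set (DX.obj j)) := QuasiCompact.isCompact_preimage _ U₁.2 hU₁c
  have hVjc : IsCompact (Vj : Set (DX.obj j)) := QuasiCompact.isCompact_preimage _ V₂.2 hV₂c
  obtain ⟨k₁, e₁, he₁⟩ := exists_map_preimage_le_map_preimage DX cX hcX (U := Uj ⊓ Vj) (V := O)
    (QuasiSeparatedSpace.inter_isCompact _ _ Uj.2 hUjc Vj.2 hVjc) (by
      rw [Scheme.Hom.preimage_inf, hUj, hVj]
      intro x hx
      obtain ⟨a, ha, hax⟩ := Set.mem_iUnion₂.mp (hs₁ hx)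
      exact hO x a (Finset.mem_union_left _ ha) hax)
  obtain ⟨k₂, e₂, he₂⟩ := exists_map_eq_top DX cX hcX (Uj ⊔ Vj ⊔ O) (by
    rw [Scheme.Hom.preimage_sup, Scheme.Hom.preimage_sup, hUj, hVj, eq_top_iff]
    intro x _
    by_cases hx : x ∈ U ⊔ V
    · exact Or.inl hx
    · obtain ⟨a, ha, hax⟩ := Set.mem_iUnion₂.mp (hs₂ hx)
      exact Or.inr (hO x a (Finset.mem_union_right _ ha) hax))
  obtain ⟨k, c₁, c₂, hc⟩ := IsCofiltered.cospan e₁ e₂
  let e : k ⟶ j := c₁ ≫ e₁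
  let Uk : (DX.obj k).Opens := DX.map e ⁻¹ᵁ Uj
  let Vk : (DX.obj k).Opens := DX.map e ⁻¹ᵁ Vj
  have hUVO : ∀ z, z ∈ Uk → z ∈ Vk → DX.map e z ∈ O := fun z hzU hzV => by
    have hz : DX.map e z = DX.map e₁ (DX.map c₁ z) := by rw [← Scheme.Hom.comp_apply, ← Functor.map_comp]
    rw [hz]
    refine he₁ (x := DX.map c₁ z) ⟨?_, ?_⟩
    · show DX.map e₁ (DX.map c₁ z) ∈ Uj
      rw [← hz]; exact hzU
    · show DX.map e₁ (DX.map c₁ z) ∈ Vj
      rw [← hz]; exact hzV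
  have hcov : ∀ z, DX.map e z ∈ O ∨ z ∈ Uk ∨ z ∈ Vk := fun z => by
    have hz : DX.map e z = DX.map e₂ (DX.map c₂ z) := by
      rw [← Scheme.Hom.comp_apply, ← Functor.map_comp, ← hc]
    rcases he₂.ge (Set.mem_univ (DX.map c₂ z)) with (h | h) | h
    · exact Or.inr (Or.inl (show DX.map e z ∈ Uj by rw [hz]; exact h))
    · exact Or.inr (Or.inr (show DX.map e z ∈ Vj by rw [hz]; exact h))
    · exact Or.inl (by rw [hz]; exact h)
  -- the Noetherian henselian ring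
  haveI : IsAffine (DS.obj k) := isAffine_of_isAffineHom (DS.map (e ≫ g₀))
  haveI : IsNoetherianRing Γ(DS.obj k, ⊤) :=
    IsLocallyNoetherian.component_noetherian ⟨⊤, isAffineOpen_top (DS.obj k)⟩
  let Ak : Type u := Γ(DS.obj k, ⊤)
  let K : Ideal Γ(DS.obj k, ⊤) := Ideal.span (Set.range fun a => (DS.map e).appTop (b a))
  have hαe : (DS.map e).appTop ≫ α k = α j := by
    show (DS.map e).appTop ≫ (eS.inv ≫ cS.π.app k).appTop ≫ _ = _
    rw [← Scheme.Hom.comp_appTop_assoc, Category.assoc, cS.w]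
  have hKI : K.map (α k).hom ≤ I := by
    rw [Ideal.map_span, Ideal.span_le]
    rintro _ ⟨_, ⟨a, rfl⟩, rfl⟩
    show ((DS.map e).appTop ≫ α k).hom (b a) ∈ I
    rw [hαe, hb]
    exact a.1.2
  have hψe : DX.map e ≫ ψ j = ψ k ≫ Spec.map (DS.map e).appTop := by
    show DX.map e ≫ φ.app j ≫ _ = (φ.app k ≫ _) ≫ _
    rw [← Category.assoc, φ.naturality, Category.assoc, Category.assoc, Scheme.toSpecΓ_naturality]
  have hT : ∀ z, DX.map e z ∈ O ↔ ψ k z ∉ PrimeSpectrum.zeroLocus (K : Set Γ(DS.obj k, ⊤)) := by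
    intro z
    have h1 : ψ j (DX.map e z) = Spec.map (DS.map e).appTop (ψ k z) := by
      rw [← Scheme.Hom.comp_apply, hψe, Scheme.Hom.comp_apply]
    show ¬ ψ j (DX.map e z) ∈ PrimeSpectrum.zeroLocus (Set.range b) ↔ _
    rw [h1]
    refine not_congr ⟨fun h => ?_, fun h => ?_⟩
    · show (K : Set Γ(DS.obj k, ⊤)) ⊆ _
      refine Ideal.span_le.mpr ?_
      rintro _ ⟨a, rfl⟩
      exact h ⟨a, rfl⟩
    · rintro _ ⟨a, rfl⟩
      exact h (Ideal.subset_span ⟨a, rfl⟩)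
  haveI : IsProper (ψ k) := inferInstanceAs (IsProper (φ.app k ≫ (DS.obj k).toSpecΓ))
  let H := PHs K
  haveI : IsNoetherianRing H := HensH7.isNoetherianRing_pHs
  have hH : Hens2.IsPairHenselization Γ(DS.obj k, ⊤) K H := PHs.isPairHenselization
  obtain ⟨θ, hθ, -⟩ := hH.2 A I (α k).hom hA hKI
  let β : Γ(DS.obj k, ⊤) ⟶ CommRingCat.of H := CommRingCat.ofHom (algebraMap _ H)
  let fH := pullback.snd (ψ k) (Spec.map β)
  let pH := pullback.fst (ψ k) (Spec.map β)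
  let TH : Set ↑(pullback (ψ k) (Spec.map β)) :=
    fH ⁻¹' PrimeSpectrum.zeroLocus (K.map (algebraMap Γ(DS.obj k, ⊤) H) : Set H)
  have hTH : ∀ w, w ∈ TH ↔ DX.map e (pH w) ∉ O := by
    intro w
    rw [hT, not_not]
    have h1 : ψ k (pH w) = Spec.map β (fH w) := by
      rw [← Scheme.Hom.comp_apply, pullback.condition, Scheme.Hom.comp_apply]
    rw [h1]
    exact ⟨fun h => fun a ha => h (Ideal.mem_map_of_mem _ ha), fun h => Ideal.map_le_iff_le_comap.mpr h⟩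
  have hTHc : IsClosed TH := (PrimeSpectrum.isClosed_zeroLocus _).preimage fH.continuous
  let PH : Set ↑(pullback (ψ k) (Spec.map β)) := TH ∩ (pH ⁻¹' (Vk : Set (DX.obj k)))ᶜ
  let QH : Set ↑(pullback (ψ k) (Spec.map β)) := TH ∩ (pH ⁻¹' (Uk : Set (DX.obj k)))ᶜ
  obtain ⟨W, hW, hPW, hWQ⟩ := exists_isClopen_noetherian hH.1 fH (P := PH) (Q := QH)
    (hTHc.inter (Vk.2.preimage pH.continuous).isClosed_compl)
    (hTHc.inter (Uk.2.preimage pH.continuous).isClosed_compl)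
    (Set.disjoint_left.mpr fun w ⟨hw, hV'⟩ ⟨_, hU'⟩ => by
      rcases hcov (pH w) with h | h | h
      · exact (hTH w).mp hw h
      · exact hU' h
      · exact hV' h)
    (by
      refine Set.Subset.antisymm (Set.union_subset Set.inter_subset_left Set.inter_subset_left) ?_
      intro w hw
      by_cases hwV : pH w ∈ Vk
      · exact Or.inr ⟨hw, fun hwU => (hTH w).mp hw (hUVO _ hwU hwV)⟩
      · exact Or.inl ⟨hw, hwV⟩)
  have hθ' : β ≫ CommRingCat.ofHom θ = α k := by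
    ext x
    exact congr($hθ x)
  let m : cX.pt ⟶ pullback (ψ k) (Spec.map β) :=
    pullback.lift (cX.π.app k) (f' ≫ Spec.map (CommRingCat.ofHom θ)) (by
      rw [hψ, ← hθ', Spec.map_comp]
      simp only [Category.assoc])
  have hm : ∀ x, pH (m x) = cX.π.app k x := fun x => by
    rw [← Scheme.Hom.comp_apply, pullback.lift_fst]
  have hUk : cX.π.app k ⁻¹ᵁ Uk = U := by
    rw [← hUj, ← Scheme.Hom.comp_preimage, cX.w]
  have hVk : cX.π.app k ⁻¹ᵁ Vk = V := by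
    rw [← hVj, ← Scheme.Hom.comp_preimage, cX.w]
  have hmT : ∀ x : cX.pt, f' x ∈ PrimeSpectrum.zeroLocus (I : Set A) → m x ∈ TH := by
    intro x hx
    rw [hTH, hm, hT, not_not]
    show (K : Set Γ(DS.obj k, ⊤)) ⊆ _
    intro t ht
    show t ∈ (ψ k (cX.π.app k x)).asIdeal
    rw [hψx]
    exact hx (hKI (Ideal.mem_map_of_mem _ ht))
  refine ⟨eX.inv ⁻¹' (m ⁻¹' W), (hW.preimage m.continuous).preimage eX.inv.continuous, fun p hp => ?_,
    Set.disjoint_left.mpr fun p hpW hp => ?_⟩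
  · have hp' : eX.hom (eX.inv p) = p := by
      rw [← Scheme.Hom.comp_apply, eX.inv_hom_id]
      rfl
    have hx : f' (eX.inv p) ∈ PrimeSpectrum.zeroLocus (I : Set A) := by
      rw [Scheme.Hom.comp_apply, hp']; exact hPQ.le (Or.inl hp)
    refine hPW ⟨hmT _ hx, fun hV' => ?_⟩
    have h1 : eX.inv p ∈ cX.π.app k ⁻¹ᵁ Vk := by
      show cX.π.app k (eX.inv p) ∈ Vk
      rw [← hm]; exact hV'
    rw [hVk] at h1
    have h2 := hVQ _ h1 hx
    rw [hp'] at h2
    exact hd.le_bot ⟨hp, h2⟩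
  · have hp' : eX.hom (eX.inv p) = p := by
      rw [← Scheme.Hom.comp_apply, eX.inv_hom_id]
      rfl
    have hx : f' (eX.inv p) ∈ PrimeSpectrum.zeroLocus (I : Set A) := by
      rw [Scheme.Hom.comp_apply, hp']; exact hPQ.le (Or.inr hp)
    refine Set.disjoint_left.mp hWQ hpW ⟨hmT _ hx, fun hU' => ?_⟩
    have h1 : eX.inv p ∈ cX.π.app k ⁻¹ᵁ Uk := by
      show cX.π.app k (eX.inv p) ∈ Uk
      rw [← hm]; exact hU'
    rw [hUk] at h1
    have h2 := hUP _ h1 hx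
    rw [hp'] at h2
    exact hd.le_bot ⟨h2, hp⟩

end Groth.Agent.HensProper6
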