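import Groth.Agent.Lib.HensProper6.General
import Groth.Agent.Lib.PtSet.Components
import Mathlib

/-! # Connected components of proper schemes over henselian pairs -/

set_option autoImplicit false
universe u v

open CategoryTheory CategoryTheory.Limits AlgebraicGeometry

namespace Groth.Agent.HensProper6

open Groth.Agent.Hens

section General

variable {A : Type u} [CommRing A] {I : Ideal A} {X : Scheme.{u}}

/-- A clopen subset missing the special part of a proper scheme is empty. -/
theorem eq_empty_of_isClosed (hA : HenselianRing A I) (f : X ⟶ Spec (CommRingCat.of A)) [IsProper f]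
    {Z : Set X} (hZ : IsClosed Z) (h : Disjoint Z (f ⁻¹' PrimeSpectrum.zeroLocus (I : Set A))) :
    Z = ∅ := by
  by_contra hne
  obtain ⟨x, hx⟩ := Set.nonempty_iff_ne_empty.mpr hne
  obtain ⟨m, hm, hle⟩ := Ideal.exists_le_maximal _ (show PrimeSpectrum A from f x).isPrime.ne_top
  have hcl : IsClosed (f '' Z : Set (PrimeSpectrum A)) := f.isClosedMap _ hZ
  have hmem : (⟨m, hm.isPrime⟩ : PrimeSpectrum A) ∈ (f '' Z : Set (PrimeSpectrum A)) :=
    ((PrimeSpectrum.le_iff_specializes (show PrimeSpectrum A from f x) ⟨m, hm.isPrime⟩).mp hle).mem_closed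
      hcl ⟨x, hx, rfl⟩
  obtain ⟨y, hy, hy'⟩ := hmem
  refine h.le_bot ⟨hy, ?_⟩
  show (I : Set A) ⊆ (show PrimeSpectrum A from f y).asIdeal
  rw [show (show PrimeSpectrum A from f y) = ⟨m, hm.isPrime⟩ from hy']
  exact hA.jac.trans (sInf_le ⟨bot_le, hm⟩)

/-- Unique lifting of clopens from the special part of a proper scheme over a henselian pair. -/
theorem clopenLift_val (hA : HenselianRing A I) (f : X ⟶ Spec (CommRingCat.of A)) [IsProper f] :
    ClopenLift (Subtype.val : (f ⁻¹' PrimeSpectrum.zeroLocus (I : Set A) : Set X) → X) := by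
  intro V hV
  have hX₀ : IsClosed (f ⁻¹' PrimeSpectrum.zeroLocus (I : Set A)) :=
    (PrimeSpectrum.isClosed_zeroLocus _).preimage f.continuous
  obtain ⟨W, hW, hPW, hWQ⟩ := exists_isClopen hA f (P := Subtype.val '' V) (Q := Subtype.val '' Vᶜ)
    (hX₀.isClosedEmbedding_subtypeVal.isClosedMap _ hV.1)
    (hX₀.isClosedEmbedding_subtypeVal.isClosedMap _ hV.compl.1)
    ((Set.disjoint_image_iff Subtype.val_injective).mpr disjoint_compl_right)
    (by rw [← Set.image_union, Set.union_compl_self, Set.image_univ, Subtype.range_coe])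
  have hWV : Subtype.val ⁻¹' W = V := by
    ext x
    refine ⟨fun hx => ?_, fun hx => hPW ⟨x, hx, rfl⟩⟩
    by_contra hn
    exact Set.disjoint_left.mp hWQ hx ⟨x, hn, rfl⟩
  refine ⟨W, ⟨hW, hWV⟩, fun U ⟨hU, hUV⟩ => ?_⟩
  have key : ∀ {S T : Set X}, IsClopen S → IsClopen T →
      (Subtype.val ⁻¹' S : Set (f ⁻¹' PrimeSpectrum.zeroLocus (I : Set A) : Set X)) = Subtype.val ⁻¹' T →
      S ⊆ T := by
    intro S T hS hT he
    rw [← Set.sdiff_eq_empty]
    refine eq_empty_of_isClosed hA f (hS.1.inter hT.compl.1) (Set.disjoint_left.mpr fun x hx hx' => ?_)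
    exact hx.2 ((Set.ext_iff.mp he ⟨x, hx'⟩).mp hx.1)
  exact Set.Subset.antisymm (key hU hW (hUV.trans hWV.symm)) (key hW hU (hWV.trans hUV.symm))

/-- Lifting along any embedding onto the special part. -/
theorem clopenLift_of_range (hA : HenselianRing A I) (f : X ⟶ Spec (CommRingCat.of A)) [IsProper f]
    {P : Type v} [TopologicalSpace P] (ι : P → X) (hι : Topology.IsEmbedding ι)
    (hr : Set.range ι = f ⁻¹' PrimeSpectrum.zeroLocus (I : Set A)) : ClopenLift ι :=
  (clopenLift_val hA f).congr_range Topology.IsEmbedding.subtypeVal hι (Subtype.range_coe.trans hr.symm)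

end General

section Components

open TopologicalSpace

variable {P : Type u} {Y : Type v} [TopologicalSpace P] [TopologicalSpace Y] [CompactSpace P]
  [PrespectralSpace P] [QuasiSeparatedSpace P] [CompactSpace Y] [PrespectralSpace Y] [QuasiSeparatedSpace Y]

theorem bijective_connectedComponentsMap {g : P → Y} (hg : Continuous g) (h : ClopenLift g) :
    Function.Bijective hg.connectedComponentsMap := by
  constructor
  · intro a b hab
    obtain ⟨x, rfl⟩ := ConnectedComponents.surjective_coe a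
    obtain ⟨y, rfl⟩ := ConnectedComponents.surjective_coe b
    rw [ConnectedComponents.coe_eq_coe']
    have hxy : g x ∈ connectedComponent (g y) := ConnectedComponents.coe_eq_coe'.mp hab
    rw [PtSet.connectedComponent_eq_sInter_isClopen_qcqs]
    rintro Z ⟨hZ, hyZ⟩
    obtain ⟨U, ⟨hU, rfl⟩, -⟩ := h Z hZ
    exact hU.connectedComponent_subset hyZ hxy
  · intro c
    obtain ⟨y, rfl⟩ := ConnectedComponents.surjective_coe c
    by_contra hne
    push Not at hne
    let S : Set (Set Y) := {Z : Set Y | IsClopen Z ∧ y ∈ Z}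
    obtain ⟨x, hx⟩ : (⋂ Z : S, g ⁻¹' Z.1).Nonempty := by
      refine IsCompact.nonempty_iInter_of_directed_nonempty_isCompact_isClosed
        (ι := S) (hι := ⟨⟨Set.univ, isClopen_univ, trivial⟩⟩) (fun Z => g ⁻¹' Z.1) ?_ (fun Z => ?_)
        (fun Z => (Z.2.1.1.preimage hg).isCompact) fun Z => Z.2.1.1.preimage hg
      · intro Z Z'
        exact ⟨⟨Z.1 ∩ Z'.1, Z.2.1.inter Z'.2.1, Z.2.2, Z'.2.2⟩,
          Set.preimage_mono Set.inter_subset_left, Set.preimage_mono Set.inter_subset_right⟩
      · by_contra hn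
        rw [Set.not_nonempty_iff_eq_empty] at hn
        obtain ⟨U, -, huniq⟩ := h ∅ isClopen_empty
        have h1 := (huniq Z.1 ⟨Z.2.1, hn⟩).trans (huniq ∅ ⟨isClopen_empty, Set.preimage_empty⟩).symm
        exact absurd Z.2.2 (by rw [h1]; exact id)
    refine hne x (ConnectedComponents.coe_eq_coe'.mpr ?_)
    rw [PtSet.connectedComponent_eq_sInter_isClopen_qcqs]
    exact fun Z hZ => Set.mem_iInter.mp hx ⟨Z, hZ⟩

omit [CompactSpace P] [PrespectralSpace P] [QuasiSeparatedSpace P] [CompactSpace Y] [PrespectralSpace Y]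
  [QuasiSeparatedSpace Y] in
theorem connectedSpace_iff {g : P → Y} (hg : Continuous g) (h : ClopenLift g) :
    ConnectedSpace Y ↔ ConnectedSpace P := by
  have hne : Nonempty Y ↔ Nonempty P := by
    refine ⟨fun hY => ?_, fun ⟨p⟩ => ⟨g p⟩⟩
    by_contra hP
    rw [not_nonempty_iff] at hP
    obtain ⟨U, -, huniq⟩ := h ∅ isClopen_empty
    have h1 := (huniq Set.univ ⟨isClopen_univ, Set.eq_empty_of_isEmpty _⟩).trans
      (huniq ∅ ⟨isClopen_empty, Set.preimage_empty⟩).symm
    exact Set.empty_ne_univ h1.symm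
  constructor
  · intro hY
    have : PreconnectedSpace P := by
      rw [preconnectedSpace_iff_clopen]
      intro V hV
      obtain ⟨U, ⟨hU, rfl⟩, -⟩ := h V hV
      rcases isClopen_iff.mp hU with rfl | rfl
      · exact Or.inl Set.preimage_empty
      · exact Or.inr Set.preimage_univ
    exact ⟨hne.mp inferInstance⟩
  · intro hP
    have : PreconnectedSpace Y := by
      rw [preconnectedSpace_iff_clopen]
      intro U hU
      obtain ⟨U', -, huniq⟩ := h _ (hU.preimage hg)
      rcases isClopen_iff.mp (hU.preimage hg) with h1 | h1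
      · exact Or.inl ((huniq U ⟨hU, rfl⟩).trans
          (huniq ∅ ⟨isClopen_empty, by rw [h1, Set.preimage_empty]⟩).symm)
      · exact Or.inr ((huniq U ⟨hU, rfl⟩).trans
          (huniq Set.univ ⟨isClopen_univ, by rw [h1, Set.preimage_univ]⟩).symm)
    exact ⟨hne.mpr inferInstance⟩

end Components

/-- If the couple is henselian, the scheme is proper over a henselian pair. -/
theorem exists_proper_over_henselian {A : Type u} [CommRing A] [IsNoetherianRing A] (I : Ideal A)
    {X : Scheme.{u}} (f : X ⟶ Spec (CommRingCat.of A)) [IsProper f]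
    (hX : ∀ (Y : Scheme.{u}) (g : Y ⟶ X), IsFinite g →
      ClopenLift (pullback.fst g (pullback.fst f (Spec.map (CommRingCat.ofHom (Ideal.Quotient.mk I))))).base) :
    ∃ (A' : Type u) (_ : CommRing A') (I' : Ideal A') (_ : HenselianRing A' I') (_ : IsNoetherianRing A')
      (f' : X ⟶ Spec (CommRingCat.of A')) (_ : IsProper f')
      (t : pullback f (Spec.map (CommRingCat.ofHom (Ideal.Quotient.mk I))) ⟶ Spec (CommRingCat.of (A' ⧸ I'))),
      IsPullback (pullback.fst f (Spec.map (CommRingCat.ofHom (Ideal.Quotient.mk I)))) t f'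
        (Spec.map (CommRingCat.ofHom (Ideal.Quotient.mk I'))) := by
  haveI : CompactSpace X := QuasiCompact.compactSpace_of_compactSpace f
  haveI : QuasiSeparatedSpace X := quasiSeparatedSpace_of_quasiSeparated f
  let mkI := Spec.map (CommRingCat.ofHom (Ideal.Quotient.mk I))
  let i := pullback.fst f mkI
  let J : Ideal Γ(X, ⊤) := RingHom.ker i.appTop.hom
  have hJ : HenselianRing Γ(X, ⊤) J := henselianRing_of_clopenLift i hX
  let mkJ : Γ(X, ⊤) ⟶ CommRingCat.of (Γ(X, ⊤) ⧸ J) := CommRingCat.ofHom (Ideal.Quotient.mk J)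
  let l : CommRingCat.of (Γ(X, ⊤) ⧸ J) ⟶ Γ(pullback f mkI, ⊤) :=
    CommRingCat.ofHom (Ideal.Quotient.lift J i.appTop.hom fun a ha => ha)
  let t := (pullback f mkI).toSpecΓ ≫ Spec.map l
  have hw : i ≫ X.toSpecΓ = t ≫ Spec.map mkJ := by
    rw [Category.assoc, ← Spec.map_comp, Scheme.toSpecΓ_naturality]
    rfl
  let α : CommRingCat.of A ⟶ Γ(X, ⊤) := CommRingCat.ofHom (R := A) (S := Γ(X, ⊤)) (Coh.toGlobal f)
  have hIJ : ∀ a ∈ I, α.hom a ∈ J := by
    intro a ha
    show i.appTop.hom (α.hom a) = 0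
    have h1 : α ≫ i.appTop = CommRingCat.ofHom (Ideal.Quotient.mk I) ≫
        (Scheme.ΓSpecIso (CommRingCat.of (A ⧸ I))).inv ≫ (pullback.snd f mkI).appTop := by
      rw [show α = (Scheme.ΓSpecIso (CommRingCat.of A)).inv ≫ f.appTop from rfl, Category.assoc,
        ← Scheme.Hom.comp_appTop, pullback.condition, Scheme.Hom.comp_appTop,
        ← Scheme.ΓSpecIso_inv_naturality_assoc]
    show (α ≫ i.appTop).hom a = 0
    rw [h1]
    show (pullback.snd f mkI).appTop.hom ((Scheme.ΓSpecIso (CommRingCat.of (A ⧸ I))).inv.hom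
      (Ideal.Quotient.mk I a)) = 0
    rw [Ideal.Quotient.eq_zero_iff_mem.mpr ha, map_zero, map_zero]
  let ρ : CommRingCat.of (A ⧸ I) ⟶ CommRingCat.of (Γ(X, ⊤) ⧸ J) :=
    CommRingCat.ofHom (Ideal.Quotient.lift I ((Ideal.Quotient.mk J).comp α.hom) fun a ha =>
      Ideal.Quotient.eq_zero_iff_mem.mpr (hIJ a ha))
  have hρ : α ≫ mkJ = CommRingCat.ofHom (Ideal.Quotient.mk I) ≫ ρ := rfl
  haveI : IsClosedImmersion (Spec.map mkJ) :=
    IsClosedImmersion.spec_of_surjective _ Ideal.Quotient.mk_surjective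
  refine ⟨Γ(X, ⊤), inferInstance, J, hJ, isNoetherianRing_Γ f, X.toSpecΓ, isProper_toSpecΓ f, t,
    IsPullback.of_isLimit' ⟨hw⟩ (PullbackCone.IsLimit.mk _
      (fun c => pullback.lift c.fst (c.snd ≫ Spec.map ρ) (by
        have hc : c.fst ≫ X.toSpecΓ = c.snd ≫ Spec.map mkJ := c.condition
        conv_lhs => rw [← toSpecΓ_comp_toGlobal f]
        rw [reassoc_of% hc, ← Spec.map_comp, Category.assoc, ← Spec.map_comp]
        exact congrArg (fun q => c.snd ≫ Spec.map q) hρ))
      (fun c => pullback.lift_fst _ _ _) (fun c => ?_) fun c m hm₁ _ => ?_)⟩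
  · rw [← cancel_mono (Spec.map mkJ), Category.assoc, ← hw, pullback.lift_fst_assoc]
    exact c.condition
  · rw [← cancel_mono (pullback.fst f mkI), pullback.lift_fst]
    exact hm₁

end Groth.Agent.HensProper6
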