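import Groth.Agent.Lib.ZConn5.Connected
import Groth.Agent.Lib.CplLocH7.Basic
import Groth.Agent.Lib.CohFound.ProperFinite
import Groth.Agent.Lib.CurveCoh17.Skyscraper
import Groth.Agent.Lib.FEtEq25.GlobalSections
import Mathlib

/-! # The affinisation of a proper scheme has connected fibres

For `X` proper over a Noetherian ring the morphism `X ⟶ Spec Γ(X, O_X)` is proper and surjective, and
Zariski's connectedness theorem over the completions of the local rings of `Γ(X, O_X)` shows that its
fibres are connected.
-/

set_option autoImplicit false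
universe u

open CategoryTheory CategoryTheory.Limits AlgebraicGeometry IsLocalRing

namespace Groth.Agent.HensProper6

/-- The ring of global functions of a proper scheme is finite over the base. -/
theorem finite_toGlobal {A : Type u} [CommRing A] [IsNoetherianRing A] {X : Scheme.{u}}
    (f : X ⟶ Spec (CommRingCat.of A)) [IsProper f] : RingHom.Finite (A := A) (B := Γ(X, ⊤)) (Coh.toGlobal f) := by
  letI : X.Over (Spec (CommRingCat.of A)) := ⟨f⟩
  haveI : IsProper (X ↘ Spec (CommRingCat.of A)) := inferInstanceAs (IsProper f)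
  haveI : Module.Finite A (Coh.HH X (Coh.structureModule X) 0) :=
    CohFound.finite_HH_of_isProper _ (M1.isCoh_structureModule X) 0
  letI : Algebra A Γ(X, ⊤) := RingHom.toAlgebra (R := A) (S := Γ(X, ⊤)) (Coh.toGlobal f)
  let e : Coh.HH X (Coh.structureModule X) 0 →ₗ[A] Γ(X, ⊤) :=
    { toFun := fun z => CurveCoh17.hh0 (Coh.structureModule X) z
      map_add' := fun z w => map_add (CurveCoh17.hh0 (Coh.structureModule X)) z w
      map_smul' := fun a z => CurveCoh17.hh0_smul (Coh.toGlobal f a) z }
  exact Module.Finite.of_surjective e fun s =>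
    ⟨(CurveCoh17.hh0 (Coh.structureModule X)).symm s, AddEquiv.apply_symm_apply _ _⟩

/-- Global functions are preserved by flat base change from an affine base. -/
theorem bijective_appTop_snd {B C : CommRingCat.{u}} (φ : B ⟶ C) [Flat (Spec.map φ)] {X : Scheme.{u}}
    (g : X ⟶ Spec B) [QuasiCompact g] [QuasiSeparated g] (hg : Function.Bijective g.appTop.hom) :
    Function.Bijective (pullback.snd g (Spec.map φ)).appTop.hom := by
  haveI : CompactSpace X := QuasiCompact.compactSpace_of_compactSpace g
  haveI : QuasiSeparatedSpace X := quasiSeparatedSpace_of_quasiSeparated g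
  have hiso := isIso_pushoutSection_of_isQuasiSeparated_of_flat_right
    (IsPullback.of_hasPullback g (Spec.map φ)) (US := ⊤) (UT := ⊤) (UX := ⊤) (UY := ⊤) le_top le_top
    (by simp) (isAffineOpen_top _) (isAffineOpen_top _) isCompact_univ isQuasiSeparated_univ
  replace hiso := (isIso_pushoutSection_iff (IsPullback.of_hasPullback g (Spec.map φ))
    le_top le_top (by simp)).mp hiso
  replace hiso : IsPushout g.appTop (Spec.map φ).appTop (pullback.fst g (Spec.map φ)).appTop
      (pullback.snd g (Spec.map φ)).appTop := by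
    simp only [Scheme.Hom.appTop, Scheme.Hom.app_eq_appLE]
    exact hiso
  haveI : IsIso g.appTop := (ConcreteCategory.isIso_iff_bijective g.appTop).mpr hg
  haveI : IsIso (pullback.snd g (Spec.map φ)).appTop := hiso.isIso_inr_of_isIso
  exact (ConcreteCategory.isIso_iff_bijective (pullback.snd g (Spec.map φ)).appTop).mp inferInstance

/-- A proper morphism to the spectrum of its Noetherian ring of global functions is surjective. -/
theorem surjective_of_bijective_appTop {B : CommRingCat.{u}} {X : Scheme.{u}} (g : X ⟶ Spec B)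
    [IsProper g] (hg : Function.Bijective g.appTop.hom) : Function.Surjective g := by
  intro p
  haveI : CompactSpace X := QuasiCompact.compactSpace_of_compactSpace g
  by_contra hp
  obtain ⟨U, ⟨b, rfl⟩, hpU, hUr⟩ := PrimeSpectrum.isTopologicalBasis_basic_opens.exists_subset_of_mem_open
    (show p ∈ (Set.range g)ᶜ from hp) g.isClosedMap.isClosed_range.isOpen_compl
  have hempty : X.basicOpen (g.appTop ((Scheme.ΓSpecIso B).inv b)) = ⊥ := by
    show X.basicOpen (g.app ⊤ ((Scheme.ΓSpecIso B).inv b)) = ⊥
    rw [← Scheme.preimage_basicOpen, basicOpen_eq_of_affine b]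
    ext x
    exact ⟨fun hx => (hUr hx ⟨x, rfl⟩).elim, False.elim⟩
  have hnil := (Scheme.isNilpotent_iff_basicOpen_eq_bot _).mpr hempty
  have hb : IsNilpotent b := by
    rw [← IsNilpotent.map_iff (f := (Scheme.ΓSpecIso B).inv.hom)
      (Scheme.ΓSpecIso B).symm.commRingCatIsoToRingEquiv.injective,
      ← IsNilpotent.map_iff (f := g.appTop.hom) hg.1]
    exact hnil
  obtain ⟨n, hn⟩ := hb
  exact hpU (p.isPrime.mem_of_pow_mem n (hn ▸ Submodule.zero_mem _))

/-- **Connected fibres**: a proper morphism to a Noetherian affine scheme inducing a bijection on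
global functions has connected fibres. -/
theorem isPreconnected_fibre {B : CommRingCat.{u}} [IsNoetherianRing B] {X : Scheme.{u}} (g : X ⟶ Spec B)
    [IsProper g] (hg : Function.Bijective g.appTop.hom) (p : PrimeSpectrum B) :
    _root_.IsPreconnected (g ⁻¹' {p}) := by
  let R := Localization.AtPrime p.asIdeal
  let C := CplLocH7.Cpl R
  haveI : Module.Flat B R := IsLocalization.flat R p.asIdeal.primeCompl
  haveI : Module.Flat R C := AdicCompletion.flat_of_isNoetherian _
  haveI : Module.Flat B C := Module.Flat.trans B R C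
  let φ : B ⟶ CommRingCat.of C := CommRingCat.ofHom (algebraMap B C)
  have hflat : φ.hom.Flat := RingHom.flat_algebraMap_iff.mpr inferInstance
  haveI : Flat (Spec.map φ) := (HasRingHomProperty.Spec_iff (P := @Flat)).mpr hflat
  let q := pullback.snd g (Spec.map φ)
  have hq : Function.Bijective q.appTop.hom := bijective_appTop_snd φ g hg
  have hpt : ∀ c : Spec (CommRingCat.of C), Spec.map φ c = p ↔ c = closedPoint C := by
    intro c
    constructor
    · intro hc
      change PrimeSpectrum C at c
      have hc' : c.asIdeal.comap (algebraMap B C) = p.asIdeal := congrArg PrimeSpectrum.asIdeal hc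
      refine PrimeSpectrum.ext (le_antisymm (le_maximalIdeal c.isPrime.ne_top) ?_)
      show maximalIdeal C ≤ c.asIdeal
      rw [CplLocH7.maximalIdeal_cpl, Ideal.map_le_iff_le_comap]
      refine le_of_eq_of_le Localization.AtPrime.map_eq_maximalIdeal.symm ?_
      rw [Ideal.map_le_iff_le_comap, Ideal.comap_comap, ← IsScalarTower.algebraMap_eq, hc']
    · rintro rfl
      refine PrimeSpectrum.ext ?_
      show (maximalIdeal C).comap (algebraMap B C) = p.asIdeal
      rw [IsScalarTower.algebraMap_eq B R C, ← Ideal.comap_comap]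
      rw [show (maximalIdeal C).comap (algebraMap R C) = maximalIdeal R by
        ext a
        rw [Ideal.mem_comap, ← pow_one (maximalIdeal C), CplLocH7.mem_pow_iff, pow_one]]
      exact IsLocalization.AtPrime.comap_maximalIdeal R p.asIdeal
  have himg : (pullback.fst g (Spec.map φ)) '' (q ⁻¹' {closedPoint C}) = g ⁻¹' {p} := by
    ext x
    constructor
    · rintro ⟨z, hz, rfl⟩
      show g (pullback.fst g (Spec.map φ) z) = p
      rw [← Scheme.Hom.comp_apply, pullback.condition, Scheme.Hom.comp_apply]
      exact (hpt _).mpr hz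
    · intro hx
      have : x ∈ Set.range (pullback.fst g (Spec.map φ)) := by
        rw [Scheme.Pullback.range_fst]
        exact ⟨closedPoint C, ((hpt _).mpr rfl).trans hx.symm⟩
      obtain ⟨z, rfl⟩ := this
      refine ⟨z, (hpt _).mp ?_, rfl⟩
      rw [← Scheme.Hom.comp_apply, ← pullback.condition, Scheme.Hom.comp_apply]
      exact hx
  rw [← himg]
  refine _root_.IsPreconnected.image ?_ _ (pullback.fst g (Spec.map φ)).continuous.continuousOn
  rw [isPreconnected_closed_iff]
  intro U V hU hV hsub ⟨a, ha, haU⟩ ⟨b, hb, hbV⟩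
  by_contra hne
  rw [Set.not_nonempty_iff_eq_empty] at hne
  have hcl : IsClosed (q ⁻¹' {closedPoint C}) :=
    (isClosed_singleton_closedPoint C).preimage q.continuous
  obtain ⟨W, hW, hUW, hWV⟩ := ZConn5.exists_isClopen (A := C) q (U ∩ q ⁻¹' {closedPoint C})
    (V ∩ q ⁻¹' {closedPoint C}) (hU.inter hcl) (hV.inter hcl)
    (by
      rw [← Set.union_inter_distrib_right]
      exact Set.inter_eq_right.mpr hsub)
    (Set.disjoint_iff_inter_eq_empty.mpr (by
      rw [← hne]
      ext z
      simp only [Set.mem_inter_iff]
      tauto))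
  haveI : CompactSpace ↑(pullback g (Spec.map φ)) := QuasiCompact.compactSpace_of_compactSpace q
  obtain ⟨e, he, hWe⟩ := FEtEq25.exists_idempotent hW
  obtain ⟨c, rfl⟩ := hq.2 e
  obtain ⟨c, rfl⟩ := (Scheme.ΓSpecIso (CommRingCat.of C)).symm.commRingCatIsoToRingEquiv.surjective c
  have hc : IsIdempotentElem c := by
    have h1 : IsIdempotentElem ((Scheme.ΓSpecIso (CommRingCat.of C)).symm.commRingCatIsoToRingEquiv c) :=
      hq.1 ((map_mul _ _ _).trans he)
    exact (Scheme.ΓSpecIso (CommRingCat.of C)).symm.commRingCatIsoToRingEquiv.injective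
      ((map_mul _ _ _).trans h1)
  rcases IsLocalRing.isUnit_or_isUnit_one_sub_self c with h | h
  · rw [show c = 1 from (h.mul_eq_left).mp hc] at hWe
    have hb' : b ∈ W := by
      rw [← hWe, map_one, map_one, Scheme.basicOpen_of_isUnit _ isUnit_one]
      trivial
    exact Set.disjoint_left.mp hWV hb' ⟨hbV, hb⟩
  · have hc0 : c = 0 := by
      have h2 : c * (1 - c) = 0 := by rw [mul_sub, mul_one, hc.eq, sub_self]
      exact (h.mul_left_eq_zero).mp h2
    rw [hc0] at hWe
    have ha' : a ∈ W := hUW ⟨haU, ha⟩
    rw [← hWe, map_zero, map_zero, Scheme.basicOpen_zero] at ha'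
    exact ha'

end Groth.Agent.HensProper6
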