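import Groth.Agent.Lib.HensProper6.Fibres
import Groth.Agent.Lib.Hens.ClopenLift
import Groth.Agent.Lib.Hens.Pair
import Groth.Agent.Lib.Hens.Finite
import Mathlib

/-! # Henselian couples

Clopen subsets lift along `X₀ ⟶ X` for a scheme `X` proper over a Noetherian ring, when the pair of
global functions is henselian; conversely lifting of clopens forces the pair of global functions to be
henselian.
-/

set_option autoImplicit false
universe u v

open CategoryTheory CategoryTheory.Limits AlgebraicGeometry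

namespace Groth.Agent.HensProper6

open Groth.Agent.Hens

section Topology

variable {X : Type u} {S : Type v} [TopologicalSpace X] [TopologicalSpace S]

theorem clopenLift_of_connected_fibres {q : X → S} (hc : Continuous q) (hcl : IsClosedMap q)
    (hs : Function.Surjective q) (hfib : ∀ s, _root_.IsPreconnected (q ⁻¹' {s})) {T : Set S}
    (hT : IsClosed T) (h : ClopenLift (Subtype.val : T → S)) :
    ClopenLift (Subtype.val : (q ⁻¹' T : Set X) → X) := by
  have hsep : ∀ {P Q : Set X}, IsClosed P → IsClosed Q → Disjoint P Q →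
      ∀ {s : S}, q ⁻¹' {s} ⊆ P ∪ Q → s ∈ q '' P → s ∉ q '' Q := by
    intro P Q hP hQ hd s hsub ⟨a, ha, has⟩ ⟨b, hb, hbs⟩
    obtain ⟨z, -, hz⟩ := isPreconnected_closed_iff.mp (hfib s) P Q hP hQ hsub
      ⟨a, has, ha⟩ ⟨b, hbs, hb⟩
    exact hd.le_bot hz
  intro V hV
  have hqT : IsClosed (q ⁻¹' T) := hT.preimage hc
  let P : Set X := Subtype.val '' V
  let Q : Set X := Subtype.val '' Vᶜ
  have hP : IsClosed P := hqT.isClosedEmbedding_subtypeVal.isClosedMap _ hV.1
  have hQ : IsClosed Q := hqT.isClosedEmbedding_subtypeVal.isClosedMap _ hV.compl.1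
  have hPQ : P ∪ Q = q ⁻¹' T := by
    rw [← Set.image_union, Set.union_compl_self, Set.image_univ, Subtype.range_coe]
  have hd : Disjoint P Q := (Set.disjoint_image_iff Subtype.val_injective).mpr disjoint_compl_right
  have hnot : ∀ {s : S}, s ∈ T → s ∈ q '' P → s ∉ q '' Q := fun hsT =>
    hsep hP hQ hd (fun x hx => hPQ.ge (show q x ∈ T by rw [show q x = _ from hx]; exact hsT))
  let V₀ : Set T := Subtype.val ⁻¹' (q '' P)
  have hV₀ : IsClopen V₀ := by
    refine ⟨(hcl _ hP).preimage continuous_subtype_val, ?_⟩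
    rw [show V₀ = (Subtype.val ⁻¹' (q '' Q))ᶜ from ?_]
    · exact ((hcl _ hQ).preimage continuous_subtype_val).isOpen_compl
    ext t
    refine ⟨fun ht => hnot t.2 ht, fun ht => ?_⟩
    obtain ⟨x, hx⟩ := hs t.1
    rcases hPQ.ge (show q x ∈ T from hx ▸ t.2) with h' | h'
    · exact ⟨x, h', hx⟩
    · exact absurd ⟨x, h', hx⟩ ht
  obtain ⟨U, ⟨hU, hUV⟩, huniq⟩ := h V₀ hV₀
  refine ⟨q ⁻¹' U, ⟨hU.preimage hc, ?_⟩, fun U' ⟨hU', hU'V⟩ => ?_⟩
  · ext ⟨x, hx⟩
    have h1 := Set.ext_iff.mp hUV ⟨q x, hx⟩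
    simp only [Set.mem_preimage] at h1 ⊢
    refine h1.trans ⟨fun hxP => ?_, fun hxV => ⟨x, ⟨⟨x, hx⟩, hxV, rfl⟩, rfl⟩⟩
    by_contra hxV
    exact hnot hx hxP ⟨x, ⟨⟨x, hx⟩, hxV, rfl⟩, rfl⟩
  · have hsat : ∀ x, q x ∈ q '' U' → x ∈ U' := fun x hx => by
      by_contra hxU
      exact hsep hU'.1 hU'.compl.1 disjoint_compl_right (s := q x) (by simp) hx ⟨x, hxU, rfl⟩
    have hpre : q ⁻¹' (q '' U') = U' :=
      Set.Subset.antisymm (fun x hx => hsat x hx) (Set.subset_preimage_image q U')
    have hW : IsClopen (q '' U') := by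
      refine ⟨hcl _ hU'.1, ?_⟩
      rw [show q '' U' = (q '' U'ᶜ)ᶜ from ?_]
      · exact (hcl _ hU'.compl.1).isOpen_compl
      ext s
      obtain ⟨x, rfl⟩ := hs s
      refine ⟨fun hx => fun ⟨x', hx', he⟩ => hx' (hsat x' (by rw [he]; exact hx)), fun hx => ?_⟩
      by_contra hn
      exact hx ⟨x, fun hxU => hn ⟨x, hxU, rfl⟩, rfl⟩
    rw [← hpre, huniq (q '' U') ⟨hW, ?_⟩]
    ext ⟨s, hs'⟩
    obtain ⟨x, rfl⟩ := hs s
    have hx' := Set.ext_iff.mp hU'V ⟨x, hs'⟩
    simp only [Set.mem_preimage] at hx'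
    show q x ∈ q '' U' ↔ q x ∈ q '' P
    refine ⟨fun hx => ⟨x, ⟨⟨x, hs'⟩, hx'.mp (hsat x hx), rfl⟩, rfl⟩, fun hx => ?_⟩
    rcases hPQ.ge (show x ∈ q ⁻¹' T from hs') with ⟨y, hy, rfl⟩ | h'
    · exact ⟨y, hx'.mpr hy, rfl⟩
    · exact absurd ⟨x, h', rfl⟩ (hnot hs' hx)

end Topology

section Proper

variable {A : Type u} [CommRing A] [IsNoetherianRing A] {X : Scheme.{u}}

omit [IsNoetherianRing A] in
theorem toSpecΓ_comp_toGlobal (f : X ⟶ Spec (CommRingCat.of A)) :
    X.toSpecΓ ≫ Spec.map (CommRingCat.ofHom (R := A) (S := Γ(X, ⊤)) (Coh.toGlobal f)) = f := by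
  have h1 : CommRingCat.ofHom (R := A) (S := Γ(X, ⊤)) (Coh.toGlobal f) =
      (Scheme.ΓSpecIso (CommRingCat.of A)).inv ≫ f.appTop := rfl
  rw [h1, Spec.map_comp, ← Category.assoc, ← Scheme.toSpecΓ_naturality, Category.assoc,
    toSpecΓ_SpecMap_ΓSpecIso_inv, Category.comp_id]

omit [IsNoetherianRing A] in
theorem isProper_toSpecΓ (f : X ⟶ Spec (CommRingCat.of A)) [IsProper f] : IsProper X.toSpecΓ := by
  have : IsProper (X.toSpecΓ ≫ Spec.map (CommRingCat.ofHom (R := A) (S := Γ(X, ⊤)) (Coh.toGlobal f))) := by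
    rw [toSpecΓ_comp_toGlobal]; infer_instance
  exact IsProper.of_comp _ (Spec.map (CommRingCat.ofHom (R := A) (S := Γ(X, ⊤)) (Coh.toGlobal f)))

theorem isNoetherianRing_Γ (f : X ⟶ Spec (CommRingCat.of A)) [IsProper f] :
    IsNoetherianRing Γ(X, ⊤) := by
  let _ : Algebra A Γ(X, ⊤) := RingHom.toAlgebra (R := A) (S := Γ(X, ⊤)) (Coh.toGlobal f)
  have : Module.Finite A Γ(X, ⊤) := finite_toGlobal f
  exact IsNoetherianRing.of_finite A _

theorem clopenLift_zeroLocus_of_henselian {B : Type u} [CommRing B] {K : Ideal B}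
    (hK : HenselianRing B K) :
    ClopenLift (Subtype.val : (PrimeSpectrum.zeroLocus (K : Set B)) → PrimeSpectrum B) := by
  have h := bijOn_idempotents hK (B := B)
  rw [Algebra.algebraMap_self, Ideal.map_id] at h
  refine ((clopenLift_comap_mk_iff K).mpr h).congr_range
    (PrimeSpectrum.isClosedEmbedding_comap_of_surjective _ _ Ideal.Quotient.mk_surjective).isEmbedding
    Topology.IsEmbedding.subtypeVal ?_
  rw [range_comap_of_surjective _ _ Ideal.Quotient.mk_surjective, Ideal.mk_ker, Subtype.range_coe]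

/-- Clopens lift to a proper scheme along the preimage of a henselian ideal of global functions. -/
theorem clopenLift_proper (f : X ⟶ Spec (CommRingCat.of A)) [IsProper f] (K : Ideal Γ(X, ⊤))
    (hK : HenselianRing Γ(X, ⊤) K) :
    ClopenLift (Subtype.val : (X.toSpecΓ ⁻¹' PrimeSpectrum.zeroLocus (K : Set Γ(X, ⊤)) : Set X) → X) := by
  have := isNoetherianRing_Γ f
  have := isProper_toSpecΓ f
  have hbij : Function.Bijective X.toSpecΓ.appTop.hom := by
    rw [Scheme.toSpecΓ_appTop]
    exact ConcreteCategory.bijective_of_isIso _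
  exact clopenLift_of_connected_fibres X.toSpecΓ.continuous X.toSpecΓ.isClosedMap
    (surjective_of_bijective_appTop _ hbij) (fun p => isPreconnected_fibre _ hbij p)
    (PrimeSpectrum.isClosed_zeroLocus _) (clopenLift_zeroLocus_of_henselian hK)

/-- Henselian couples from henselian pairs of global functions. -/
theorem clopenLift_couple (f : X ⟶ Spec (CommRingCat.of A)) [IsProper f] (K : Ideal Γ(X, ⊤))
    (hK : HenselianRing Γ(X, ⊤) K) {X₀ : Scheme.{u}} (i : X₀ ⟶ X) [IsClosedImmersion i]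
    (hi : Set.range i = X.toSpecΓ ⁻¹' PrimeSpectrum.zeroLocus (K : Set Γ(X, ⊤)))
    {Y : Scheme.{u}} (g : Y ⟶ X) [IsFinite g] :
    ClopenLift (pullback.fst g i).base := by
  let _ : Algebra A Γ(Y, ⊤) := RingHom.toAlgebra (R := A) (S := Γ(Y, ⊤)) (Coh.toGlobal (g ≫ f))
  let _ : Algebra A Γ(X, ⊤) := RingHom.toAlgebra (R := A) (S := Γ(X, ⊤)) (Coh.toGlobal f)
  let _ : Algebra Γ(X, ⊤) Γ(Y, ⊤) := g.appTop.hom.toAlgebra
  have : IsScalarTower A Γ(X, ⊤) Γ(Y, ⊤) :=
    IsScalarTower.of_algebraMap_eq (R := A) (S := Γ(X, ⊤)) (A := Γ(Y, ⊤)) fun a => rfl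
  have : Module.Finite A Γ(Y, ⊤) := finite_toGlobal (g ≫ f)
  have : Module.Finite Γ(X, ⊤) Γ(Y, ⊤) := Module.Finite.of_restrictScalars_finite A _ _
  have hK' : HenselianRing Γ(Y, ⊤) (K.map g.appTop.hom) :=
    henselianRing_of_isIntegral hK (B := Γ(Y, ⊤))
  refine (clopenLift_proper (g ≫ f) _ hK').congr_range Topology.IsEmbedding.subtypeVal
    (pullback.fst g i).isClosedEmbedding.isEmbedding ?_
  rw [Subtype.range_coe, Scheme.Pullback.range_fst, hi]
  ext y
  show Y.toSpecΓ y ∈ PrimeSpectrum.zeroLocus (K.map g.appTop.hom : Set Γ(Y, ⊤)) ↔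
    X.toSpecΓ (g y) ∈ PrimeSpectrum.zeroLocus (K : Set Γ(X, ⊤))
  rw [← Scheme.Hom.comp_apply, Scheme.toSpecΓ_naturality, Scheme.Hom.comp_apply]
  exact ⟨fun h a ha => h (Ideal.mem_map_of_mem _ ha), fun h => Ideal.map_le_iff_le_comap.mpr h⟩

omit [IsNoetherianRing A] in
/-- The preimage of `V(I)` in terms of global functions. -/
theorem preimage_zeroLocus (f : X ⟶ Spec (CommRingCat.of A)) (I : Ideal A) :
    f ⁻¹' PrimeSpectrum.zeroLocus (I : Set A) =
      X.toSpecΓ ⁻¹' PrimeSpectrum.zeroLocus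
        (Ideal.map (R := A) (S := Γ(X, ⊤)) (Coh.toGlobal f) I : Set Γ(X, ⊤)) := by
  ext x
  show f x ∈ PrimeSpectrum.zeroLocus (I : Set A) ↔ X.toSpecΓ x ∈ PrimeSpectrum.zeroLocus
    (Ideal.map (R := A) (S := Γ(X, ⊤)) (Coh.toGlobal f) I : Set Γ(X, ⊤))
  conv_lhs => rw [← toSpecΓ_comp_toGlobal f]
  rw [Scheme.Hom.comp_apply]
  exact ⟨fun h => Ideal.map_le_iff_le_comap.mpr h,
    fun h a ha => h (Ideal.mem_map_of_mem (R := A) (S := Γ(X, ⊤)) (Coh.toGlobal f) ha)⟩

omit [IsNoetherianRing A] in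
theorem range_fst_quotient (f : X ⟶ Spec (CommRingCat.of A)) (I : Ideal A) :
    Set.range (pullback.fst f (Spec.map (CommRingCat.ofHom (Ideal.Quotient.mk I)))) =
      f ⁻¹' PrimeSpectrum.zeroLocus (I : Set A) := by
  rw [Scheme.Pullback.range_fst]
  exact congrArg (f ⁻¹' ·) ((range_comap_of_surjective _ (Ideal.Quotient.mk I)
    Ideal.Quotient.mk_surjective).trans (by rw [Ideal.mk_ker]))

instance (I : Ideal A) : IsClosedImmersion (Spec.map (CommRingCat.ofHom (Ideal.Quotient.mk I))) :=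
  IsClosedImmersion.spec_of_surjective _ Ideal.Quotient.mk_surjective

/-- Proper schemes over Noetherian henselian pairs give henselian couples. -/
theorem clopenLift_of_henselian_base (f : X ⟶ Spec (CommRingCat.of A)) [IsProper f] {I : Ideal A}
    (hA : HenselianRing A I) {Y : Scheme.{u}} (g : Y ⟶ X) [IsFinite g] :
    ClopenLift (pullback.fst g (pullback.fst f (Spec.map (CommRingCat.ofHom (Ideal.Quotient.mk I))))).base := by
  let _ : Algebra A Γ(X, ⊤) := RingHom.toAlgebra (R := A) (S := Γ(X, ⊤)) (Coh.toGlobal f)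
  have : Module.Finite A Γ(X, ⊤) := finite_toGlobal f
  exact clopenLift_couple f _ (henselianRing_of_isIntegral hA (B := Γ(X, ⊤))) _
    ((range_fst_quotient f I).trans (preimage_zeroLocus f I)) g

/-- The couple is henselian if the pair of global functions is. -/
theorem clopenLift_of_henselian_Γ (f : X ⟶ Spec (CommRingCat.of A)) [IsProper f] (I : Ideal A)
    (h : HenselianRing Γ(X, ⊤)
      (RingHom.ker (pullback.fst f (Spec.map (CommRingCat.ofHom (Ideal.Quotient.mk I)))).appTop.hom))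
    {Y : Scheme.{u}} (g : Y ⟶ X) [IsFinite g] :
    ClopenLift (pullback.fst g (pullback.fst f (Spec.map (CommRingCat.ofHom (Ideal.Quotient.mk I))))).base := by
  refine clopenLift_couple f _ h _ ?_ g
  set i := pullback.fst f (Spec.map (CommRingCat.ofHom (Ideal.Quotient.mk I)))
  refine Set.Subset.antisymm ?_ ?_
  · rintro _ ⟨z, rfl⟩
    intro b hb
    by_contra hnot
    have h1 : i z ∈ X.basicOpen b := by
      rw [← Scheme.toSpecΓ_preimage_basicOpen]
      exact hnot
    have h2 : z ∈ i ⁻¹ᵁ X.basicOpen b := h1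
    rw [Scheme.preimage_basicOpen, show i.app ⊤ b = 0 from hb, Scheme.basicOpen_zero] at h2
    exact h2
  · rw [range_fst_quotient, preimage_zeroLocus f I]
    have hsub : Ideal.map (R := A) (S := Γ(X, ⊤)) (Coh.toGlobal f) I ≤ RingHom.ker i.appTop.hom :=
      Ideal.map_le_of_le_comap fun a ha => ?_
    · exact Set.preimage_mono (PrimeSpectrum.zeroLocus_anti_mono (SetLike.coe_subset_coe.mpr hsub))
    show i.appTop.hom (Coh.toGlobal f a) = 0
    have h1 : ((CommRingCat.ofHom (R := A) (S := Γ(X, ⊤)) (Coh.toGlobal f)) ≫ i.appTop).hom a = 0 := by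
      have h2 : CommRingCat.ofHom (R := A) (S := Γ(X, ⊤)) (Coh.toGlobal f) =
          (Scheme.ΓSpecIso (CommRingCat.of A)).inv ≫ f.appTop := rfl
      rw [h2, Category.assoc, ← Scheme.Hom.comp_appTop, pullback.condition, Scheme.Hom.comp_appTop,
        ← Scheme.ΓSpecIso_inv_naturality_assoc]
      show (pullback.snd f _).appTop.hom ((Scheme.ΓSpecIso (CommRingCat.of (A ⧸ I))).inv.hom (Ideal.Quotient.mk I a)) = 0
      rw [Ideal.Quotient.eq_zero_iff_mem.mpr ha, map_zero, map_zero]
    exact h1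

end Proper

section Converse

variable {X X₀ : Scheme.{u}}

theorem eq_zero_of_isIdempotentElem {e : Γ(X, ⊤)} (he : IsIdempotentElem e)
    (h : X.basicOpen e = ⊥) : e = 0 := by
  have hu : IsUnit (1 - e) := by
    refine RingedSpace.isUnit_of_isUnit_germ X.toLocallyRingedSpace.toRingedSpace ⊤ (1 - e) fun x _ => ?_
    rcases IsLocalRing.isUnit_or_isUnit_one_sub_self (X.presheaf.germ ⊤ x trivial e) with h1 | h1
    · exact absurd ((X.mem_basicOpen_top _ _).mpr h1) (by rw [h]; exact id)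
    · rw [← map_one (X.presheaf.germ ⊤ x trivial).hom, ← map_sub] at h1
      exact h1
  have h2 : e * (1 - e) = 0 := by rw [mul_sub, mul_one, he.eq, sub_self]
  exact (hu.mul_left_eq_zero).mp h2

theorem idempotent_eq_of_basicOpen_eq {e e' : Γ(X, ⊤)} (he : IsIdempotentElem e)
    (he' : IsIdempotentElem e') (h : (X.basicOpen e : Set X) = X.basicOpen e') : e = e' := by
  have key : ∀ {a b : Γ(X, ⊤)}, IsIdempotentElem a → IsIdempotentElem b →
      (X.basicOpen a : Set X) ⊆ X.basicOpen b → a * (1 - b) = 0 := by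
    intro a b ha hb hab
    refine eq_zero_of_isIdempotentElem (ha.mul hb.one_sub) ?_
    rw [Scheme.basicOpen_mul, eq_bot_iff]
    intro x ⟨hx, hx'⟩
    have h1 : IsUnit (X.presheaf.germ ⊤ x trivial b) := (X.mem_basicOpen_top _ _).mp (hab hx)
    have h2 : IsUnit (X.presheaf.germ ⊤ x trivial (1 - b)) := (X.mem_basicOpen_top _ _).mp hx'
    have h3 := h1.mul h2
    rw [← map_mul, mul_sub, mul_one, hb.eq, sub_self, map_zero] at h3
    exact (not_isUnit_zero h3).elim
  have h1 := key he he' h.le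
  have h2 := key he' he h.ge
  rw [mul_sub, mul_one, sub_eq_zero] at h1 h2
  rw [h1, mul_comm]
  exact h2.symm

set_option maxHeartbeats 1000000 in
/-- If clopens lift uniquely along finite morphisms the pair of global functions is henselian. -/
theorem henselianRing_of_clopenLift [CompactSpace X] [QuasiSeparatedSpace X] (i : X₀ ⟶ X)
    [IsClosedImmersion i] (hX : ∀ (Y : Scheme.{u}) (g : Y ⟶ X), IsFinite g → ClopenLift (pullback.fst g i).base) :
    HenselianRing Γ(X, ⊤) (RingHom.ker i.appTop.hom) := by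
  classical
  set B := Γ(X, ⊤)
  set J := RingHom.ker i.appTop.hom
  have hjac : J ≤ Ideal.jacobson ⊥ := by
    intro j hj
    rw [Ideal.mem_jacobson_bot]
    intro y
    let b : B := j * y + 1
    let π : B ⟶ CommRingCat.of (B ⧸ Ideal.span {b}) := CommRingCat.ofHom (Ideal.Quotient.mk _)
    have : IsClosedImmersion (Spec.map π) := IsClosedImmersion.spec_of_surjective _ Ideal.Quotient.mk_surjective
    let g := pullback.fst X.toSpecΓ (Spec.map π)
    have hb : i.appTop b = 1 := by
      rw [show i.appTop b = i.appTop.hom (j * y + 1) from rfl, map_add, map_mul,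
        show i.appTop.hom j = 0 from hj, zero_mul, zero_add, map_one]
    have hrange : ∀ x, x ∈ Set.range g ↔ x ∉ X.basicOpen b := by
      intro x
      rw [Scheme.Pullback.range_fst]
      show X.toSpecΓ x ∈ Set.range (PrimeSpectrum.comap (Ideal.Quotient.mk _)) ↔ _
      rw [range_comap_of_surjective _ _ Ideal.Quotient.mk_surjective, Ideal.mk_ker,
        PrimeSpectrum.zeroLocus_span, ← Scheme.toSpecΓ_preimage_basicOpen]
      exact ⟨fun hx hx' => hx' (Set.singleton_subset_iff.mp hx),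
        fun hx => Set.singleton_subset_iff.mpr (not_not.mp fun hn => hx hn)⟩
    have hempty : IsEmpty ↑(pullback g i) := ⟨fun z => by
      have h2 : i (pullback.snd g i z) ∈ Set.range g :=
        ⟨pullback.fst g i z, by rw [← Scheme.Hom.comp_apply, pullback.condition, Scheme.Hom.comp_apply]⟩
      refine (hrange _).mp h2 ?_
      show pullback.snd g i z ∈ i ⁻¹ᵁ X.basicOpen b
      rw [Scheme.preimage_basicOpen, show i.app ⊤ b = 1 from hb, Scheme.basicOpen_of_isUnit _ isUnit_one]
      trivial⟩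
    obtain ⟨U, -, huniq⟩ := hX _ g inferInstance ∅ isClopen_empty
    have h1 := (huniq ∅ ⟨isClopen_empty, Set.preimage_empty⟩).trans
      (huniq Set.univ ⟨isClopen_univ, Set.eq_empty_of_isEmpty _⟩).symm
    refine RingedSpace.isUnit_of_isUnit_germ X.toLocallyRingedSpace.toRingedSpace ⊤ b fun x _ => ?_
    refine (X.mem_basicOpen_top _ _).mp ?_
    by_contra hx
    obtain ⟨z, -⟩ := (hrange x).mpr hx
    exact (Set.ext_iff.mp h1 z).mpr trivial
  refine ⟨hjac, fun f hf a₀ h₀ h₁ => ?_⟩
  have := hf.finite_adjoinRoot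
  have := hf.free_adjoinRoot
  let C := AdjoinRoot f
  let φ : B ⟶ CommRingCat.of C := CommRingCat.ofHom (algebraMap B C)
  have hflat : φ.hom.Flat := RingHom.flat_algebraMap_iff.mpr inferInstance
  haveI : Flat (Spec.map φ) := (HasRingHomProperty.Spec_iff (P := @Flat)).mpr hflat
  haveI : IsFinite (Spec.map φ) :=
    (IsFinite.SpecMap_iff _).mpr (RingHom.finite_algebraMap.mpr inferInstance)
  haveI : QuasiCompact X.toSpecΓ := quasiCompact_of_compactSpace _
  haveI : QuasiSeparated X.toSpecΓ := QuasiSeparated.of_quasiSeparatedSpace _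
  let h := pullback.fst X.toSpecΓ (Spec.map φ)
  let w := pullback.snd X.toSpecΓ (Spec.map φ)
  have hbijX : Function.Bijective X.toSpecΓ.appTop.hom := by
    rw [Scheme.toSpecΓ_appTop]
    exact ConcreteCategory.bijective_of_isIso _
  have hw : Function.Bijective w.appTop.hom := bijective_appTop_snd φ _ hbijX
  let γ : CommRingCat.of C ⟶ Γ(pullback X.toSpecΓ (Spec.map φ), ⊤) :=
    (Scheme.ΓSpecIso (CommRingCat.of C)).inv ≫ w.appTop
  have hγ : Function.Bijective γ.hom := by
    show Function.Bijective (w.appTop.hom ∘ (Scheme.ΓSpecIso (CommRingCat.of C)).inv.hom)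
    exact hw.comp (ConcreteCategory.bijective_of_isIso _)
  let k := pullback.fst h i
  let r := pullback.snd h i ≫ i ≫ X.toSpecΓ
  let χ : CommRingCat.of C ⟶ Γ(pullback h i, ⊤) := γ ≫ k.appTop
  have hχφ : φ ≫ χ = i.appTop ≫ (pullback.snd h i).appTop := by
    have e1 : φ ≫ γ = h.appTop := by
      show φ ≫ _ ≫ w.appTop = _
      rw [Scheme.ΓSpecIso_inv_naturality_assoc, ← Scheme.Hom.comp_appTop, ← pullback.condition,
        Scheme.Hom.comp_appTop, Scheme.toSpecΓ_appTop]
      exact (Scheme.ΓSpecIso Γ(X, ⊤)).inv_hom_id_assoc _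
    show φ ≫ γ ≫ k.appTop = _
    rw [← Category.assoc, e1, ← Scheme.Hom.comp_appTop, pullback.condition, Scheme.Hom.comp_appTop]
  have hker : RingHom.ker χ.hom = J.map (algebraMap B C) := by
    refine le_antisymm ?_ (Ideal.map_le_iff_le_comap.mpr fun b hb => ?_)
    · have H : IsPullback (pullback.snd h i) (k ≫ w) (i ≫ X.toSpecΓ) (Spec.map φ) :=
        (IsPullback.of_hasPullback h i).flip.paste_vert (IsPullback.of_hasPullback X.toSpecΓ (Spec.map φ))
      haveI : CompactSpace X₀ := QuasiCompact.compactSpace_of_compactSpace i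
      haveI : QuasiSeparatedSpace X₀ := quasiSeparatedSpace_of_quasiSeparated i
      have hiso := isIso_pushoutSection_of_isQuasiSeparated_of_flat_right H (US := ⊤) (UT := ⊤)
        (UX := ⊤) (UY := ⊤) le_top le_top (by simp) (isAffineOpen_top _) (isAffineOpen_top _)
        isCompact_univ isQuasiSeparated_univ
      replace hiso := (isIso_pushoutSection_iff H le_top le_top (by simp)).mp hiso
      replace hiso : IsPushout (i ≫ X.toSpecΓ).appTop (Spec.map φ).appTop (pullback.snd h i).appTop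
          (k ≫ w).appTop := by
        simp only [Scheme.Hom.appTop, Scheme.Hom.app_eq_appLE]
        exact hiso
      have hiso' : IsPushout i.appTop φ (pullback.snd h i).appTop χ := by
        refine hiso.of_iso (Scheme.ΓSpecIso _) (Iso.refl _) (Scheme.ΓSpecIso _) (Iso.refl _) ?_ ?_ ?_ ?_
        · rw [Scheme.Hom.comp_appTop, Scheme.toSpecΓ_appTop]
          simp
        · exact Scheme.ΓSpecIso_naturality φ
        · simp
        · show (k ≫ w).appTop ≫ 𝟙 _ = (Scheme.ΓSpecIso _).hom ≫ ((Scheme.ΓSpecIso _).inv ≫ w.appTop) ≫ k.appTop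
          rw [Category.comp_id, Category.assoc, Iso.hom_inv_id_assoc, Scheme.Hom.comp_appTop]
      let _ : Algebra B Γ(X₀, ⊤) := i.appTop.hom.toAlgebra
      let _ : Algebra Γ(X₀, ⊤) Γ(pullback h i, ⊤) := (pullback.snd h i).appTop.hom.toAlgebra
      let _ : Algebra C Γ(pullback h i, ⊤) := χ.hom.toAlgebra
      let _ : Algebra B Γ(pullback h i, ⊤) := ((pullback.snd h i).appTop.hom.comp i.appTop.hom).toAlgebra
      have : IsScalarTower B Γ(X₀, ⊤) Γ(pullback h i, ⊤) := IsScalarTower.of_algebraMap_eq' rfl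
      have : IsScalarTower B C Γ(pullback h i, ⊤) :=
        IsScalarTower.of_algebraMap_eq' (congrArg CommRingCat.Hom.hom hiso'.w)
      have hP : Algebra.IsPushout B Γ(X₀, ⊤) C Γ(pullback h i, ⊤) :=
        CommRingCat.isPushout_iff_isPushout.mp hiso'
      intro c hc
      have h1 : (1 : Γ(X₀, ⊤)) ⊗ₜ[B] c = 0 := by
        apply (Algebra.IsPushout.equiv B Γ(X₀, ⊤) C Γ(pullback h i, ⊤)).injective
        rw [Algebra.IsPushout.equiv_tmul, map_one, one_mul, map_zero]
        exact hc
      let ι : (B ⧸ J) →ₐ[B] Γ(X₀, ⊤) := Ideal.Quotient.liftₐ J (Algebra.ofId B _) fun a ha => ha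
      have hι : Function.Injective ι := by
        rw [injective_iff_map_eq_zero]
        intro z hz
        obtain ⟨z, rfl⟩ := Ideal.Quotient.mk_surjective z
        exact Ideal.Quotient.eq_zero_iff_mem.mpr hz
      have h2 : (1 : B ⧸ J) ⊗ₜ[B] c = 0 := by
        refine Module.Flat.rTensor_preserves_injective_linearMap ι.toLinearMap hι ?_
        rw [LinearMap.rTensor_tmul, map_zero]
        show ι 1 ⊗ₜ[B] c = 0
        rw [map_one]
        exact h1
      rw [← ker_includeRight_quotient J C]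
      exact h2
    · rw [Ideal.mem_comap, RingHom.mem_ker]
      show (φ ≫ χ).hom b = 0
      rw [hχφ]
      show (pullback.snd h i).appTop.hom (i.appTop.hom b) = 0
      rw [show i.appTop.hom b = 0 from hb, map_zero]
  obtain ⟨q, hq⟩ := Polynomial.X_sub_C_dvd_sub_C_eval (a := a₀) (p := f)
  have hqa : q.eval a₀ = f.derivative.eval a₀ := by
    have := congrArg (fun p => (Polynomial.derivative p).eval a₀) hq
    simpa [Polynomial.derivative_mul] using this.symm
  obtain ⟨u, hu⟩ := Ideal.Quotient.mk_surjective (h₁.unit⁻¹ : (B ⧸ J)ˣ).1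
  have hu' : u * q.eval a₀ - 1 ∈ J := by
    rw [← Ideal.Quotient.eq, map_mul, map_one, hu, hqa]
    exact h₁.val_inv_mul
  set IC := J.map (algebraMap B C)
  set ρ : C := AdjoinRoot.root f
  have h0 : (ρ - algebraMap B C a₀) * Polynomial.aeval ρ q ∈ IC := by
    have := congrArg (Polynomial.aeval ρ) hq
    simp only [map_sub, map_mul, Polynomial.aeval_X, Polynomial.aeval_C] at this
    rw [← this, AdjoinRoot.aeval_eq, AdjoinRoot.mk_self, zero_sub]
    exact neg_mem (Ideal.mem_map_of_mem _ h₀)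
  set t : C := algebraMap B C u * Polynomial.aeval ρ q
  have ht : t * t - t ∈ IC := by
    obtain ⟨k', hk⟩ := Polynomial.X_sub_C_dvd_sub_C_eval (a := a₀) (p := q)
    have := congrArg (Polynomial.aeval ρ) hk
    simp only [map_sub, map_mul, Polynomial.aeval_X, Polynomial.aeval_C] at this
    have : t * t - t = ((ρ - algebraMap B C a₀) * Polynomial.aeval ρ q) *
        (algebraMap B C u * algebraMap B C u * Polynomial.aeval ρ k') +
          t * algebraMap B C (u * q.eval a₀ - 1) := by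
      rw [map_sub, map_mul, map_one]
      linear_combination (t * algebraMap B C u) * this
    rw [this]
    exact add_mem (Ideal.mul_mem_right _ _ h0) (Ideal.mul_mem_left _ _ (Ideal.mem_map_of_mem _ hu'))
  have hs : IsIdempotentElem (χ.hom t) := by
    rw [IsIdempotentElem, ← map_mul, ← sub_eq_zero, ← map_sub]
    exact hker.ge ht
  obtain ⟨U, ⟨hU, hUV⟩, -⟩ := hX _ h inferInstance _ (FEtEq25.isClopen_basicOpen hs)
  obtain ⟨e', he', heU⟩ := FEtEq25.exists_idempotent hU
  obtain ⟨e, rfl⟩ := hγ.2 e'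
  have he : IsIdempotentElem e := hγ.1 ((map_mul _ _ _).trans he')
  have hek : χ.hom e = χ.hom t := by
    refine idempotent_eq_of_basicOpen_eq (he'.map k.appTop.hom) hs ?_
    rw [← hUV, ← heU]
    exact congrArg (fun O : (pullback h i).Opens => (O : Set ↑(pullback h i)))
      (Scheme.preimage_basicOpen k (γ.hom e)).symm
  have het : e - t ∈ IC := hker.le (by rw [RingHom.mem_ker, map_sub, hek, sub_self])
  refine exists_root_of_idempotent hjac hf h₀ (g := Polynomial.C u * q) he ?_ ?_ ?_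
  · rwa [map_mul, Polynomial.aeval_C]
  · rwa [Polynomial.eval_mul, Polynomial.eval_C]
  · rw [map_mul, Polynomial.aeval_C]
    have : (ρ - algebraMap B C a₀) * (algebraMap B C u * Polynomial.aeval ρ q) =
        algebraMap B C u * ((ρ - algebraMap B C a₀) * Polynomial.aeval ρ q) := by ring
    rw [this]
    exact Ideal.mul_mem_left _ _ h0

end Converse

end Groth.Agent.HensProper6
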